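import Mathlib

set_option autoImplicit false

namespace Cfsg.Agent.SQF

/-- In a finite `q`-group a subgroup of index at most `q` is everything or has index `q`. -/
theorem sqf_orb_index_cases {Q : Type*} [Group Q] [Finite Q] (q : ℕ) [hq : Fact q.Prime]
    (hQ : IsPGroup q Q) (H : Subgroup Q) (hH : H.index ≤ q) : H = ⊤ ∨ H.index = q := by
  obtain ⟨n, hn⟩ := hQ.index H
  rcases Nat.eq_zero_or_pos n with h0 | hpos
  · left
    rw [h0, pow_zero] at hn
    exact Subgroup.index_eq_one.mp hn
  · right
    have h1 : q ≤ q ^ n := by
      calc q = q ^ 1 := (pow_one q).symm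
        _ ≤ q ^ n := Nat.pow_le_pow_right hq.out.pos hpos
    omega

/-- A subgroup of index `q` of a finite `q`-group is normal. -/
theorem sqf_orb_normal_of_index {Q : Type*} [Group Q] [Finite Q] (q : ℕ) [hq : Fact q.Prime]
    (hQ : IsPGroup q Q) (H : Subgroup Q) (hH : H.index = q) : H.Normal := by
  apply Subgroup.normal_of_index_eq_minFac_card
  obtain ⟨k, hk⟩ := hQ.exists_card_eq
  have hk0 : k ≠ 0 := by
    rintro rfl
    rw [pow_zero] at hk
    have := H.index_dvd_card
    rw [hk, hH] at this
    exact hq.out.one_lt.ne' (Nat.dvd_one.mp this)
  rw [hH, hk, hq.out.pow_minFac hk0]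

/-- Two comparable subgroups of the same nonzero index coincide. -/
theorem sqf_orb_eq_of_le_of_index {Q : Type*} [Group Q] (R S : Subgroup Q) (hle : R ≤ S)
    (hidx : R.index = S.index) (h0 : R.index ≠ 0) : R = S := by
  apply le_antisymm hle
  have h1 := Subgroup.relIndex_mul_index hle
  rw [← hidx] at h1
  have h2 : R.relIndex S = 1 := by
    have h3 : R.relIndex S * R.index = 1 * R.index := by rw [h1, one_mul]
    exact Nat.eq_of_mul_eq_mul_right (Nat.pos_of_ne_zero h0) h3
  exact Subgroup.relIndex_eq_one.mp h2

/-- A `q`-group acting faithfully by automorphisms on a commutative group `W` of exponent prime to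
`q`, all of whose orbits have at most `q` elements, has order at most `q`. -/
theorem sqf_card_le_of_orbits {Q W : Type*} [Group Q] [Finite Q] [CommGroup W]
    [MulDistribMulAction Q W] (q : ℕ) [Fact q.Prime] (hQ : IsPGroup q Q)
    (hfaith : ∀ x : Q, (∀ w : W, x • w = w) → x = 1)
    (m : ℕ) (hm : m.Coprime q) (hW : ∀ w : W, w ^ m = 1)
    (horb : ∀ w : W, (MulAction.stabilizer Q w).index ≤ q) :
    Nat.card Q ≤ q := by
  have hq : q.Prime := Fact.out
  by_cases hall : ∀ w : W, MulAction.stabilizer Q w = ⊤
  · -- everything is fixed: `Q` is trivial
    have htriv : ∀ x : Q, x = 1 := by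
      intro x
      apply hfaith
      intro w
      have : x ∈ MulAction.stabilizer Q w := by rw [hall w]; exact Subgroup.mem_top x
      exact MulAction.mem_stabilizer_iff.mp this
    have : Subsingleton Q := ⟨fun a b => by rw [htriv a, htriv b]⟩
    rw [Nat.card_unique]
    exact hq.pos
  · push Not at hall
    obtain ⟨w₀, hw₀⟩ := hall
    set R := MulAction.stabilizer Q w₀ with hR
    have hRidx : R.index = q := (sqf_orb_index_cases q hQ R (horb w₀)).resolve_left hw₀
    have hRn : R.Normal := sqf_orb_normal_of_index q hQ R hRidx
    have hq0 : q ≠ 0 := hq.ne_zero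
    -- `R` fixes everything
    have hfix : ∀ w' : W, R ≤ MulAction.stabilizer Q w' := by
      intro w'
      set R' := MulAction.stabilizer Q w' with hR'
      rcases sqf_orb_index_cases q hQ R' (horb w') with htop | hR'idx
      · rw [htop]; exact le_top
      · by_contra hnle
        have hR'n : R'.Normal := sqf_orb_normal_of_index q hQ R' hR'idx
        have hne : R ≠ R' := fun h => hnle (h ▸ le_refl _)
        -- an element of the stabilizer of `w₀ * w'` outside `R`
        have hex : ∃ x : Q, x ∈ MulAction.stabilizer Q (w₀ * w') ∧ x ∉ R := by
          by_contra hcon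
          push Not at hcon
          have hle : MulAction.stabilizer Q (w₀ * w') ≤ R := hcon
          rcases sqf_orb_index_cases q hQ _ (horb (w₀ * w')) with ht | hi
          · rw [ht] at hle
            exact hw₀ (top_le_iff.mp hle)
          · have heq : MulAction.stabilizer Q (w₀ * w') = R :=
              sqf_orb_eq_of_le_of_index _ _ hle (by rw [hi, hRidx]) (by rw [hi]; exact hq0)
            apply hnle
            intro r hr
            have h1 : r • w₀ = w₀ := MulAction.mem_stabilizer_iff.mp hr
            have h2 : r • (w₀ * w') = w₀ * w' := by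
              have : r ∈ MulAction.stabilizer Q (w₀ * w') := by rw [heq]; exact hr
              exact MulAction.mem_stabilizer_iff.mp this
            rw [smul_mul', h1] at h2
            exact MulAction.mem_stabilizer_iff.mpr (mul_left_cancel h2)
        obtain ⟨x, hx, hxR⟩ := hex
        have hx' : x • w₀ * x • w' = w₀ * w' := by
          rw [← smul_mul']; exact MulAction.mem_stabilizer_iff.mp hx
        obtain ⟨d, hd⟩ : ∃ d : W, d = x • w₀ * w₀⁻¹ := ⟨_, rfl⟩
        have hd' : d = w' * (x • w')⁻¹ := by
          rw [hd, eq_mul_inv_iff_mul_eq, mul_assoc, mul_comm w₀⁻¹, ← mul_assoc, hx',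
            mul_comm w₀, mul_assoc, mul_inv_cancel, mul_one]
        -- `d` is fixed by `R` and by `R'`
        have hdR : R ≤ MulAction.stabilizer Q d := by
          intro r hr
          have h1 : r • w₀ = w₀ := MulAction.mem_stabilizer_iff.mp hr
          have h2 : (x⁻¹ * r * x) • w₀ = w₀ := by
            have : x⁻¹ * r * x ∈ R := by
              have := hRn.conj_mem r hr x⁻¹
              rwa [inv_inv] at this
            exact MulAction.mem_stabilizer_iff.mp this
          have h3 : r • x • w₀ = x • w₀ := by
            have : r • x • w₀ = x • (x⁻¹ * r * x) • w₀ := by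
              rw [← mul_smul, ← mul_smul]; group
            rw [this, h2]
          apply MulAction.mem_stabilizer_iff.mpr
          rw [hd, smul_mul', smul_inv', h3, h1]
        have hdR' : R' ≤ MulAction.stabilizer Q d := by
          intro r hr
          have h1 : r • w' = w' := MulAction.mem_stabilizer_iff.mp hr
          have h2 : (x⁻¹ * r * x) • w' = w' := by
            have : x⁻¹ * r * x ∈ R' := by
              have := hR'n.conj_mem r hr x⁻¹
              rwa [inv_inv] at this
            exact MulAction.mem_stabilizer_iff.mp this
          have h3 : r • x • w' = x • w' := by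
            have : r • x • w' = x • (x⁻¹ * r * x) • w' := by
              rw [← mul_smul, ← mul_smul]; group
            rw [this, h2]
          apply MulAction.mem_stabilizer_iff.mpr
          rw [hd', smul_mul', smul_inv', h3, h1]
        -- hence by all of `Q`
        have hdtop : MulAction.stabilizer Q d = ⊤ := by
          rcases sqf_orb_index_cases q hQ _ (horb d) with ht | hi
          · exact ht
          · exfalso
            have e1 : R = MulAction.stabilizer Q d :=
              sqf_orb_eq_of_le_of_index _ _ hdR (by rw [hi, hRidx]) (by rw [hRidx]; exact hq0)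
            have e2 : R' = MulAction.stabilizer Q d :=
              sqf_orb_eq_of_le_of_index _ _ hdR' (by rw [hi, hR'idx]) (by rw [hR'idx]; exact hq0)
            exact hne (e1.trans e2.symm)
        have hxd : x • d = d := by
          have : x ∈ MulAction.stabilizer Q d := by rw [hdtop]; exact Subgroup.mem_top x
          exact MulAction.mem_stabilizer_iff.mp this
        have hxw : x • w₀ = d * w₀ := by
          rw [hd, mul_assoc, inv_mul_cancel, mul_one]
        have hpow : ∀ k : ℕ, (x ^ k) • w₀ = d ^ k * w₀ := by
          intro k
          induction k with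
          | zero => simp
          | succ k ih =>
            rw [pow_succ', mul_smul, ih, smul_mul', smul_pow', hxd, hxw, pow_succ, mul_assoc]
        have hxq : x ^ q ∈ R := by
          have := Subgroup.pow_index_mem R x
          rwa [hRidx] at this
        have hdq : d ^ q = 1 := by
          have h1 : (x ^ q) • w₀ = w₀ := MulAction.mem_stabilizer_iff.mp hxq
          rw [hpow q] at h1
          exact mul_eq_right.mp h1
        have hd1 : d = 1 := by
          have h1 : d ^ Nat.gcd m q = 1 := by
            rw [← orderOf_dvd_iff_pow_eq_one]
            exact Nat.dvd_gcd (orderOf_dvd_of_pow_eq_one (hW d)) (orderOf_dvd_of_pow_eq_one hdq)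
          rw [Nat.Coprime] at hm
          rwa [hm, pow_one] at h1
        apply hxR
        apply MulAction.mem_stabilizer_iff.mpr
        rw [hxw, hd1, one_mul]
    -- so `R` is trivial
    have hRbot : R = ⊥ := by
      rw [Subgroup.eq_bot_iff_forall]
      intro r hr
      apply hfaith
      intro w
      exact MulAction.mem_stabilizer_iff.mp (hfix w hr)
    have hcard : Nat.card Q = q := by
      have := R.index_mul_card
      rw [hRidx, hRbot, Subgroup.card_bot, mul_one] at this
      exact this.symm
    exact hcard.le

end Cfsg.Agent.SQF
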