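import Mathlib
import Cfsg.Prelude.Def_Characters
import Cfsg.Agent.Helper6.ItoMichler
import Cfsg.Agent.Helper6.CdpA
import Cfsg.Agent.SQF.Orbits

/-!
# S5010, piece B (helper8): a `q`-group acting faithfully on an abelian normal `q'`-subgroup

If all character degrees of `G` are squarefree, `N` is an abelian normal subgroup, `Q` a `q`-subgroup
acting faithfully on `N`, `|N|` prime to `q` and `NQ` normal in `G`, then `|Q| ≤ q`: by Clifford the
inertial index of every linear character `λ` of `N` divides a character degree, so is squarefree; the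
`Q`-orbit of `λ` is its `NQ`-orbit, whose length divides the inertial index because `NQ` is normal;
so all `Q`-orbits on the dual group have length at most `q`, and `sqf_card_le_of_orbits` applies.
-/

set_option autoImplicit false

universe u

namespace Cfsg.Agent.SQF

open Cfsg Cfsg.Agent.Helper6

variable {G : Type u} [Group G]

/-- The action of `G` on the dual group of the normal subgroup `N`: `(g • μ)(n) = μ(g⁻¹ n g)`. -/
noncomputable def sqf_dualAction (N : Subgroup G) [N.Normal] :
    MulDistribMulAction G (↥N →* ℂˣ) where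
  smul g μ := μ.comp (MulAut.conjNormal g⁻¹ : ↥N ≃* ↥N).toMonoidHom
  one_smul μ := by
    ext n
    show ((μ ((MulAut.conjNormal (1 : G)⁻¹ : ↥N ≃* ↥N) n) : ℂˣ) : ℂ) = ((μ n : ℂˣ) : ℂ)
    have h : (MulAut.conjNormal (1 : G)⁻¹ : ↥N ≃* ↥N) n = n :=
      Subtype.ext (by simp [MulAut.conjNormal_apply])
    rw [h]
  mul_smul a b μ := by
    ext n
    show ((μ ((MulAut.conjNormal (a * b)⁻¹ : ↥N ≃* ↥N) n) : ℂˣ) : ℂ) =
      ((μ ((MulAut.conjNormal b⁻¹ : ↥N ≃* ↥N) ((MulAut.conjNormal a⁻¹ : ↥N ≃* ↥N) n)) : ℂˣ) : ℂ)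
    have h : (MulAut.conjNormal (a * b)⁻¹ : ↥N ≃* ↥N) n =
        (MulAut.conjNormal b⁻¹ : ↥N ≃* ↥N) ((MulAut.conjNormal a⁻¹ : ↥N ≃* ↥N) n) :=
      Subtype.ext (by simp [MulAut.conjNormal_apply, mul_assoc])
    rw [h]
  smul_mul g μ ν := rfl
  smul_one g := rfl

theorem sqf_smul_apply (N : Subgroup G) [N.Normal] (g : G) (μ : ↥N →* ℂˣ) (n : ↥N) :
    letI := sqf_dualAction N
    (g • μ) n = μ ((MulAut.conjNormal g⁻¹ : ↥N ≃* ↥N) n) := rfl

/-- Fixing `μ` means lying in the inertia group of the character `μ`. -/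
theorem sqf_smul_eq_iff (N : Subgroup G) [N.Normal] (g : G) (μ : ↥N →* ℂˣ) :
    letI := sqf_dualAction N
    g • μ = μ ↔ g ∈ conjStab N (fun n : ↥N => ((μ n : ℂˣ) : ℂ)) := by
  letI := sqf_dualAction N
  rw [← inv_mem_iff, mem_conjStab]
  constructor
  · intro h
    funext n
    have := DFunLike.congr_fun h n
    rw [sqf_smul_apply] at this
    show ((μ ((MulAut.conjNormal g⁻¹ : ↥N ≃* ↥N) n) : ℂˣ) : ℂ) = ((μ n : ℂˣ) : ℂ)
    rw [this]
  · intro h
    ext n
    have := congrFun h n
    exact this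

/-- An index in a `q`-group that divides a squarefree number is at most `q`. -/
theorem sqf_index_le {q k t : ℕ} (hq : q.Prime) (ht : Squarefree t) (h : q ^ k ∣ t) : q ^ k ≤ q := by
  rcases Nat.lt_or_ge k 2 with hk | hk
  · interval_cases k
    · simpa using hq.one_le
    · simp
  · exfalso
    have h2 : q * q ∣ t := Dvd.dvd.trans (by
      rw [← pow_two]
      exact pow_dvd_pow q hk) h
    have := ht q h2
    exact hq.one_lt.ne' (Nat.isUnit_iff.mp this)

theorem sqf_card_le_of_degrees {G : Type u} [Group G] [Finite G]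
    (hsq : ∀ χ : Cfsg.IrrCharacter G, Squarefree (Cfsg.charDegree (χ : G → ℂ)))
    (N Q : Subgroup G) [N.Normal] (hNab : ∀ a ∈ N, ∀ b ∈ N, a * b = b * a)
    (q : ℕ) [Fact q.Prime] (hQ : IsPGroup q Q) (hcop : (Nat.card N).Coprime q)
    (hNQ : (N ⊔ Q).Normal)
    (hfaith : ∀ x ∈ Q, (∀ n ∈ N, x * n = n * x) → x = 1) :
    Nat.card Q ≤ q := by
  classical
  haveI := Fintype.ofFinite G
  haveI : Fintype N := Fintype.ofFinite _
  letI := sqf_dualAction N
  have hq := (Fact.out : q.Prime)
  -- `N` acts trivially on its dual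
  have hNtriv : ∀ n ∈ N, ∀ μ : ↥N →* ℂˣ, n • μ = μ := by
    intro n hn μ
    ext y
    rw [sqf_smul_apply]
    congr 2
    apply Subtype.ext
    rw [MulAut.conjNormal_apply, inv_inv]
    have := hNab n⁻¹ (N.inv_mem hn) y y.2
    rw [this, inv_mul_cancel_right]
  refine sqf_card_le_of_orbits (Q := ↥Q) (W := ↥N →* ℂˣ) q hQ ?_ (Nat.card N) hcop ?_ ?_
  · -- faithful
    intro x hx
    have hx' : ∀ n ∈ N, (x : G) * n = n * (x : G) := by
      intro n hn
      by_contra hne
      obtain ⟨y, hy⟩ : ∃ y : ↥N, y =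
          (MulAut.conjNormal (x : G)⁻¹ : ↥N ≃* ↥N) ⟨n, hn⟩ * (⟨n, hn⟩ : ↥N)⁻¹ := ⟨_, rfl⟩
      have hy1 : y ≠ 1 := by
        intro h1
        apply hne
        have h2 := congrArg Subtype.val h1
        rw [hy] at h2
        simp only [Subgroup.coe_mul, MulAut.conjNormal_apply, inv_inv, Subgroup.coe_inv,
          Subgroup.coe_one] at h2
        have h3 : (x : G)⁻¹ * n * (x : G) = n := by
          rw [mul_inv_eq_one] at h2
          exact h2
        calc (x : G) * n = (x : G) * ((x : G)⁻¹ * n * (x : G)) := by rw [h3]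
          _ = n * (x : G) := by group
      obtain ⟨μ, hμ⟩ := Cdp.exists_hom_ne_one (A := ↥N)
        (fun a b => Subtype.ext (hNab a a.2 b b.2)) y hy1
      apply hμ
      have h4 := DFunLike.congr_fun (hx μ) ⟨n, hn⟩
      rw [Subgroup.smul_def, sqf_smul_apply] at h4
      rw [hy, map_mul, map_inv μ, h4, mul_inv_cancel]
    have := hfaith (x : G) x.2 hx'
    exact Subtype.ext this
  · -- exponent
    intro μ
    ext n
    rw [MonoidHom.pow_apply, ← map_pow, pow_card_eq_one', map_one, MonoidHom.one_apply]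
  · -- orbits
    intro μ
    set T : Subgroup G := conjStab N (fun n : ↥N => ((μ n : ℂˣ) : ℂ)) with hT
    set H : Subgroup G := N ⊔ Q with hH
    -- Clifford: the inertial index is squarefree
    obtain ⟨χ, hne⟩ := exists_irr_over N (⟨fun n : ↥N => ((μ n : ℂˣ) : ℂ), isIrrCharacter_of_hom μ⟩ :
      Cfsg.IrrCharacter ↥N)
    have hTsq : Squarefree T.index :=
      Squarefree.squarefree_of_dvd (degree_dvd_of_over N χ _ hne).2 (hsq χ)
    -- stabilizers in subgroups
    have hstabQ : MulAction.stabilizer ↥Q μ = T.subgroupOf Q := by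
      ext x
      rw [MulAction.mem_stabilizer_iff, Subgroup.mem_subgroupOf, Subgroup.smul_def,
        sqf_smul_eq_iff]
    have hstabH : MulAction.stabilizer ↥H μ = T.subgroupOf H := by
      ext x
      rw [MulAction.mem_stabilizer_iff, Subgroup.mem_subgroupOf, Subgroup.smul_def,
        sqf_smul_eq_iff]
    -- the orbits of `Q` and of `H = NQ` coincide
    have horbit : MulAction.orbit ↥Q μ = MulAction.orbit ↥H μ := by
      ext ν
      constructor
      · rintro ⟨x, rfl⟩
        exact ⟨⟨(x : G), (le_sup_right : Q ≤ N ⊔ Q) x.2⟩, rfl⟩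
      · rintro ⟨h, rfl⟩
        obtain ⟨n, hn, x, hx, hnx⟩ := Subgroup.mem_sup_of_normal_left.mp h.2
        refine ⟨⟨x, hx⟩, ?_⟩
        show (x : G) • μ = (h : G) • μ
        rw [← hnx, mul_smul, hNtriv n hn]
    have hidx : (MulAction.stabilizer ↥Q μ).index = T.relIndex H := by
      rw [MulAction.index_stabilizer, horbit, ← MulAction.index_stabilizer, hstabH]
      rfl
    -- `T.relIndex H` divides `T.index` because `H` is normal
    have hdvd : T.relIndex H ∣ T.index := by
      have h3 : T.relIndex (T ⊔ H) = T.relIndex H := by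
        have e1 := Subgroup.relIndex_mul_relIndex (T ⊓ H) T (T ⊔ H) inf_le_left le_sup_left
        have e2 := Subgroup.relIndex_mul_relIndex (T ⊓ H) H (T ⊔ H) inf_le_right le_sup_right
        rw [Subgroup.inf_relIndex_left, ← Subgroup.relIndex_sup_right (K := H) (H := T)] at e1
        rw [Subgroup.inf_relIndex_right] at e2
        have hne0 : H.relIndex (T ⊔ H) ≠ 0 := by
          show (H.subgroupOf (T ⊔ H)).index ≠ 0
          exact Subgroup.index_ne_zero_of_finite
        have e3 : H.relIndex (T ⊔ H) * T.relIndex (T ⊔ H) = H.relIndex (T ⊔ H) * T.relIndex H := by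
          rw [e1, ← e2, mul_comm]
        exact Nat.eq_of_mul_eq_mul_left (Nat.pos_of_ne_zero hne0) e3
      rw [← h3]
      exact Subgroup.relIndex_dvd_index_of_le le_sup_left
    obtain ⟨k, hk⟩ := hQ.index (MulAction.stabilizer ↥Q μ)
    rw [hk]
    apply sqf_index_le hq hTsq
    rw [← hk, hidx]
    exact hdvd
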