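import Mathlib
import Cfsg.Prelude.Def_Characters
import Cfsg.Prelude.Def_Solvable
import Cfsg.Agent.Helper6.ItoMichler
import Cfsg.Agent.Helper6.TwoDegC

/-!
S5010, piece D (helper7): squarefree character degrees pass to normal subgroups and quotients, and a
finite nilpotent group with squarefree character degrees is metabelian.
Headers verbatim from `notes/S5010_headers.lean.txt`.
-/

set_option autoImplicit false

universe u

namespace Cfsg.Agent.SQF

theorem sqf_degrees_normal {G : Type u} [Group G] [Finite G]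
    (hsq : ∀ χ : Cfsg.IrrCharacter G, Squarefree (Cfsg.charDegree (χ : G → ℂ)))
    (K : Subgroup G) [K.Normal] (θ : Cfsg.IrrCharacter K) :
    Squarefree (Cfsg.charDegree (θ : K → ℂ)) := by
  classical
  have : Fintype G := Fintype.ofFinite G
  have : Fintype K := Fintype.ofFinite K
  obtain ⟨χ, hχ⟩ := Cfsg.Agent.Helper6.exists_irr_over K θ
  have hdvd := (Cfsg.Agent.Helper6.degree_dvd_of_over K χ θ hχ).1
  exact Squarefree.squarefree_of_dvd hdvd (hsq χ)

theorem sqf_degrees_quotient {G : Type u} [Group G] [Finite G]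
    (hsq : ∀ χ : Cfsg.IrrCharacter G, Squarefree (Cfsg.charDegree (χ : G → ℂ)))
    (N : Subgroup G) [N.Normal] (χ : Cfsg.IrrCharacter (G ⧸ N)) :
    Squarefree (Cfsg.charDegree (χ : G ⧸ N → ℂ)) := by
  have h1 := Cfsg.Agent.Helper6.isIrrCharacter_inflate N χ
  have h2 := hsq ⟨_, h1⟩
  have h3 : Cfsg.charDegree ((χ : G ⧸ N → ℂ) ∘ QuotientGroup.mk) =
      Cfsg.charDegree (χ : G ⧸ N → ℂ) := by
    unfold Cfsg.charDegree
    simp
  rw [← h3]
  exact h2

/-- A finite `p`-group with squarefree character degrees is metabelian. -/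
theorem sqf_pgroup_metabelian {G : Type u} [Group G] [Finite G] (p : ℕ) [hp : Fact p.Prime]
    (hG : IsPGroup p G)
    (hsq : ∀ χ : Cfsg.IrrCharacter G, Squarefree (Cfsg.charDegree (χ : G → ℂ))) :
    derivedSeries G 2 = ⊥ := by
  obtain ⟨k, hk⟩ := IsPGroup.iff_card.mp hG
  have hcd : ∀ χ : Cfsg.IrrCharacter G, Cfsg.charDegree (χ : G → ℂ) = 1 ∨
      Cfsg.charDegree (χ : G → ℂ) = p := by
    intro χ
    have h1 : Cfsg.charDegree (χ : G → ℂ) ∣ p ^ k := by
      rw [← hk]; exact Cfsg.Agent.Helper6.charDegree_dvd_card χ.2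
    obtain ⟨j, -, hj⟩ := (Nat.dvd_prime_pow hp.out).mp h1
    have h2 := hsq χ
    rw [hj] at h2 ⊢
    rcases Nat.lt_or_ge j 2 with hj2 | hj2
    · interval_cases j
      · left; simp
      · right; simp
    · exfalso
      have h3 : p * p ∣ p ^ j := by
        rw [← pow_two]; exact pow_dvd_pow p hj2
      exact hp.out.ne_one (Nat.isUnit_iff.mp (h2 p h3))
  have hcomm := Cfsg.Agent.Helper6.two_degree_metabelian (G := G) p hp.out.ne_zero hcd
  -- the commutator subgroup is abelian
  rw [eq_bot_iff]
  have h2 : derivedSeries G 2 = ⁅derivedSeries G 1, derivedSeries G 1⁆ := rfl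
  have h1 : derivedSeries G 1 = commutator G := by
    rw [derivedSeries_one]
  rw [h2, h1, Subgroup.commutator_le]
  intro a ha b hb
  rw [Subgroup.mem_bot, commutatorElement_eq_one_iff_mul_comm]
  exact hcomm a ha b hb

theorem sqf_nilpotent_metabelian_aux :
    ∀ n : ℕ, ∀ (G : Type u) [Group G] [Finite G] [Group.IsNilpotent G], Nat.card G = n →
      (∀ χ : Cfsg.IrrCharacter G, Squarefree (Cfsg.charDegree (χ : G → ℂ))) →
      derivedSeries G 2 = ⊥ := by
  intro n
  induction n using Nat.strong_induction_on with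
  | _ n ih =>
    intro G _ _ _ hcard hsq
    have hpos : 0 < Nat.card G := Nat.card_pos
    by_cases hone : Nat.card G = 1
    · -- trivial group
      have : Subsingleton G := (Nat.card_eq_one_iff_unique.mp hone).1
      exact Subsingleton.elim _ _
    -- a prime divisor
    set p := (Nat.card G).minFac with hp
    have hpp : p.Prime := Nat.minFac_prime hone
    have : Fact p.Prime := ⟨hpp⟩
    have hpdvd : p ∣ Nat.card G := Nat.minFac_dvd _
    by_cases hall : ∀ r : ℕ, r.Prime → r ∣ Nat.card G → r = p
    · -- `G` is a `p`-group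
      have hpow := Nat.eq_prime_pow_of_unique_prime_dvd hpos.ne' (fun {d} hd hdvd => hall d hd hdvd)
      exact sqf_pgroup_metabelian p (IsPGroup.of_card hpow) hsq
    · push Not at hall
      obtain ⟨r, hr, hrdvd, hrp⟩ := hall
      have : Fact r.Prime := ⟨hr⟩
      -- the Sylow subgroups are normal
      have hsyl : ∀ (q : ℕ), Fact q.Prime → ∀ (P : Sylow q G), (P : Subgroup G).Normal :=
        ((Group.isNilpotent_of_finite_tfae (G := G)).out 0 3).mp ‹Group.IsNilpotent G›
      obtain ⟨P⟩ : Nonempty (Sylow p G) := inferInstance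
      obtain ⟨R⟩ : Nonempty (Sylow r G) := inferInstance
      have hPn : (P : Subgroup G).Normal := hsyl p inferInstance P
      have hRn : (R : Subgroup G).Normal := hsyl r inferInstance R
      have hPne : (P : Subgroup G) ≠ ⊥ := P.ne_bot_of_dvd_card hpdvd
      have hRne : (R : Subgroup G) ≠ ⊥ := R.ne_bot_of_dvd_card hrdvd
      -- quotients are smaller
      have key : ∀ (N : Subgroup G) [N.Normal], N ≠ ⊥ → derivedSeries G 2 ≤ N := by
        intro N _ hN
        have hlt : Nat.card (G ⧸ N) < n := by
          rw [← hcard, ← Subgroup.index_eq_card]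
          have h1 := Subgroup.card_mul_index N
          have h2 : 1 < Nat.card N := by
            rw [Subgroup.one_lt_card_iff_ne_bot]; exact hN
          have h3 : 0 < N.index := Nat.pos_of_ne_zero Subgroup.index_ne_zero_of_finite
          nlinarith
        have h4 := ih _ hlt (G ⧸ N) rfl (sqf_degrees_quotient hsq N)
        have h5 := map_derivedSeries_eq (QuotientGroup.mk'_surjective N) 2
        rw [h4] at h5
        have h6 : derivedSeries G 2 ≤ (QuotientGroup.mk' N).ker :=
          (Subgroup.map_eq_bot_iff _).mp h5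
        rwa [QuotientGroup.ker_mk'] at h6
      have h1 := key (P : Subgroup G) hPne
      have h2 := key (R : Subgroup G) hRne
      have hcop : Nat.Coprime (Nat.card (P : Subgroup G)) (Nat.card (R : Subgroup G)) :=
        IsPGroup.coprime_card_of_ne p r (Ne.symm hrp) _ _ P.2 R.2
      have h3 : (P : Subgroup G) ⊓ (R : Subgroup G) = ⊥ :=
        disjoint_iff.mp (Subgroup.disjoint_of_coprime_natCard hcop)
      rw [eq_bot_iff, ← h3]
      exact le_inf h1 h2

/-- A finite nilpotent group all of whose character degrees are squarefree is metabelian. -/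
theorem sqf_nilpotent_metabelian {G : Type u} [Group G] [Finite G] [Group.IsNilpotent G]
    (hsq : ∀ χ : Cfsg.IrrCharacter G, Squarefree (Cfsg.charDegree (χ : G → ℂ))) :
    derivedSeries G 2 = ⊥ :=
  sqf_nilpotent_metabelian_aux _ G rfl hsq

end Cfsg.Agent.SQF
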