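import Mathlib
import Cfsg.Prelude.Def_Characters
import Cfsg.Prelude.Def_Solvable
import Cfsg.Agent.Helper1.Fitting
import Cfsg.Agent.Helper1.Fitting2
import Cfsg.Agent.Helper5.Cores
import Cfsg.Agent.S0070
import Cfsg.Agent.SQF.Dual
import Cfsg.Agent.SQF.Nilp

/-!
# Solvable groups with squarefree character degrees: `G'' ≤ F(G)` (helper5, S5010)

Induction on `|G|`.  If `Φ(G) ≠ 1` pass to `G/Φ(G)` (S0070).  If two nontrivial normal subgroups meet
trivially, `G''` embeds in `F(G/N₁) × F(G/N₂)`.  Otherwise `G` has a unique minimal normal subgroup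
`N`, an abelian `p`-group with a complement-like maximal subgroup `M` acting faithfully on `N`; every
`O_q(M)` has order at most `q` (`sqf_card_le_of_degrees`), so `M` is metabelian and `G'' ≤ N`.
-/

set_option autoImplicit false
set_option linter.style.haveILetI false

universe u

namespace Cfsg.Agent.SQF

open scoped commutatorElement

/-! ### groups all of whose `p`-cores have order at most `p` are metabelian -/

theorem sqf_mulAut_comm_of_isCyclic {K : Type*} [Group K] [IsCyclic K] (σ τ : MulAut K) :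
    σ * τ = τ * σ := by
  apply (IsCyclic.mulAutMulEquiv K).injective
  rw [map_mul, map_mul, mul_comm]

theorem sqf_commutator_le_centralizer_of_isCyclic {M : Type*} [Group M] (K : Subgroup M)
    [K.Normal] [IsCyclic K] : commutator M ≤ Subgroup.centralizer (K : Set M) := by
  rw [commutator_def, Subgroup.commutator_le]
  intro a _ b _
  rw [Subgroup.mem_centralizer_iff]
  intro z hz
  have h1 : (MulAut.conjNormal ⁅a, b⁆ : MulAut K) = 1 := by
    rw [commutatorElement_def, map_mul, map_mul, map_mul, map_inv, map_inv,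
      sqf_mulAut_comm_of_isCyclic (MulAut.conjNormal a : MulAut K) (MulAut.conjNormal b),
      mul_inv_cancel_right, mul_inv_cancel]
  have h2 := congrArg (fun f : MulAut K => ((f ⟨z, hz⟩ : K) : M)) h1
  simp only [MulAut.conjNormal_apply, MulAut.one_apply] at h2
  -- h2 : ⁅a, b⁆ * z * ⁅a, b⁆⁻¹ = z
  have h3 : ⁅a, b⁆ * z = z * ⁅a, b⁆ := mul_inv_eq_iff_eq_mul.mp h2
  exact h3.symm

theorem sqf_metabelian_of_small_cores {M : Type u} [Group M] [Finite M] [Group.IsSolvable M]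
    (h : ∀ q : ℕ, q.Prime → Nat.card (Cfsg.pCore q M) ≤ q) : derivedSeries M 2 = ⊥ := by
  have hcyc : ∀ q : ℕ, q.Prime → IsCyclic (Cfsg.pCore q M) := by
    intro q hq
    haveI : Fact q.Prime := ⟨hq⟩
    have hp : IsPGroup q (Cfsg.pCore q M) := Cfsg.Agent.Helper5.isPGroup_pCore q
    obtain ⟨k, hk⟩ := IsPGroup.iff_card.mp hp
    have hle := h q hq
    rcases Nat.eq_zero_or_pos k with rfl | hk0
    · rw [pow_zero] at hk
      haveI : Subsingleton (Cfsg.pCore q M) := (Nat.card_eq_one_iff_unique.mp hk).1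
      exact isCyclic_of_subsingleton
    · have hk1 : k = 1 := by
        by_contra hne
        have h2 : 2 ≤ k := by omega
        have h3 : q ^ 2 ≤ q ^ k := Nat.pow_le_pow_right hq.pos h2
        have h4 : q < q ^ 2 := by nlinarith [hq.two_le]
        omega
      subst hk1
      exact isCyclic_of_prime_card (by rw [hk, pow_one])
  have hcomm : commutator M ≤ Subgroup.centralizer (Cfsg.fittingSubgroup M : Set M) := by
    rw [Subgroup.le_centralizer_iff, Cfsg.Agent.Helper1.fittingSubgroup_eq_fitJoin]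
    unfold Cfsg.Agent.Helper1.fitJoin
    apply iSup_le
    intro p
    haveI := hcyc p p.2
    rw [← Subgroup.le_centralizer_iff]
    exact sqf_commutator_le_centralizer_of_isCyclic _
  have hF : commutator M ≤ Cfsg.fittingSubgroup M :=
    hcomm.trans Cfsg.Agent.Helper1.centralizer_fittingSubgroup_le
  rw [show (2 : ℕ) = 1 + 1 from rfl, derivedSeries_succ, derivedSeries_one,
    Subgroup.commutator_eq_bot_iff_le_centralizer]
  intro x hx
  rw [Subgroup.mem_centralizer_iff]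
  intro y hy
  have h1 := hcomm hx
  rw [Subgroup.mem_centralizer_iff] at h1
  exact h1 y (hF hy)

/-! ### the two reduction steps -/

theorem sqf_le_fitting_of_two {G : Type u} [Group G] [Finite G] (N₁ N₂ : Subgroup G)
    [N₁.Normal] [N₂.Normal] (hinf : N₁ ⊓ N₂ = ⊥)
    (h₁ : derivedSeries (G ⧸ N₁) 2 ≤ Cfsg.fittingSubgroup (G ⧸ N₁))
    (h₂ : derivedSeries (G ⧸ N₂) 2 ≤ Cfsg.fittingSubgroup (G ⧸ N₂)) :
    derivedSeries G 2 ≤ Cfsg.fittingSubgroup G := by
  have hmem₁ : ∀ x : derivedSeries G 2,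
      ((QuotientGroup.mk' N₁).comp (derivedSeries G 2).subtype) x ∈
        Cfsg.fittingSubgroup (G ⧸ N₁) := fun x =>
    h₁ (map_derivedSeries_le_derivedSeries (QuotientGroup.mk' N₁) 2
      (Subgroup.mem_map_of_mem _ x.2))
  have hmem₂ : ∀ x : derivedSeries G 2,
      ((QuotientGroup.mk' N₂).comp (derivedSeries G 2).subtype) x ∈
        Cfsg.fittingSubgroup (G ⧸ N₂) := fun x =>
    h₂ (map_derivedSeries_le_derivedSeries (QuotientGroup.mk' N₂) 2
      (Subgroup.mem_map_of_mem _ x.2))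
  let f₁ : derivedSeries G 2 →* Cfsg.fittingSubgroup (G ⧸ N₁) :=
    ((QuotientGroup.mk' N₁).comp (derivedSeries G 2).subtype).codRestrict _ hmem₁
  let f₂ : derivedSeries G 2 →* Cfsg.fittingSubgroup (G ⧸ N₂) :=
    ((QuotientGroup.mk' N₂).comp (derivedSeries G 2).subtype).codRestrict _ hmem₂
  haveI : Group.IsNilpotent (Cfsg.fittingSubgroup (G ⧸ N₁)) :=
    Cfsg.Agent.Helper1.fittingSubgroup_isNilpotent
  haveI : Group.IsNilpotent (Cfsg.fittingSubgroup (G ⧸ N₂)) :=
    Cfsg.Agent.Helper1.fittingSubgroup_isNilpotent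
  have hker : (f₁.prod f₂).ker ≤ Subgroup.center (derivedSeries G 2) := by
    intro x hx
    rw [MonoidHom.mem_ker] at hx
    have hx1 : f₁ x = 1 := congrArg Prod.fst hx
    have hx2 : f₂ x = 1 := congrArg Prod.snd hx
    have h1 : (x : G) ∈ N₁ := by
      have h := congrArg Subtype.val hx1
      exact (QuotientGroup.eq_one_iff _).mp h
    have h2 : (x : G) ∈ N₂ := by
      have h := congrArg Subtype.val hx2
      exact (QuotientGroup.eq_one_iff _).mp h
    have h3 : (x : G) ∈ N₁ ⊓ N₂ := ⟨h1, h2⟩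
    rw [hinf, Subgroup.mem_bot] at h3
    have hx0 : x = 1 := Subtype.ext h3
    rw [hx0]
    exact Subgroup.one_mem _
  have hnil : Group.IsNilpotent (derivedSeries G 2) :=
    Subgroup.isNilpotent_of_ker_le_center (f₁.prod f₂) hker
  exact Cfsg.Agent.Helper1.le_fittingSubgroup inferInstance hnil

theorem sqf_le_fitting_of_frattini {G : Type u} [Group G] [Finite G]
    (h : derivedSeries (G ⧸ frattini G) 2 ≤ Cfsg.fittingSubgroup (G ⧸ frattini G)) :
    derivedSeries G 2 ≤ Cfsg.fittingSubgroup G := by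
  rw [Cfsg.Agent.S0070.result] at h
  have hΦ : frattini G ≤ Cfsg.fittingSubgroup G :=
    Cfsg.Agent.Helper1.le_fittingSubgroup inferInstance frattini_nilpotent
  intro x hx
  have h1 : (QuotientGroup.mk' (frattini G)) x ∈ derivedSeries (G ⧸ frattini G) 2 :=
    map_derivedSeries_le_derivedSeries _ 2 (Subgroup.mem_map_of_mem _ hx)
  obtain ⟨y, hy, hyx⟩ := h h1
  have h2 : y⁻¹ * x ∈ frattini G := by
    rw [← QuotientGroup.eq]
    exact hyx
  have h3 : x = y * (y⁻¹ * x) := by group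
  rw [h3]
  exact Subgroup.mul_mem _ hy (hΦ h2)

/-! ### the unique minimal normal subgroup -/

theorem sqf_exists_min_normal {G : Type u} [Group G] [Finite G] [Nontrivial G]
    (hmeet : ∀ N₁ N₂ : Subgroup G, N₁.Normal → N₂.Normal → N₁ ≠ ⊥ → N₂ ≠ ⊥ → N₁ ⊓ N₂ ≠ ⊥) :
    ∃ N : Subgroup G, N.Normal ∧ N ≠ ⊥ ∧ ∀ K : Subgroup G, K.Normal → K ≠ ⊥ → N ≤ K := by
  classical
  let S : Set (Subgroup G) := {K | K.Normal ∧ K ≠ ⊥}
  have hSne : S.Nonempty := ⟨⊤, inferInstance, top_ne_bot⟩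
  obtain ⟨N, ⟨hNn, hNne⟩, hmin⟩ :=
    Set.exists_min_image S (fun K => Nat.card K) (Set.toFinite S) hSne
  refine ⟨N, hNn, hNne, fun K hKn hKne => ?_⟩
  have h1 : N ⊓ K ≠ ⊥ := hmeet N K hNn hKn hNne hKne
  have h2 : (N ⊓ K).Normal := by
    haveI := hNn
    haveI := hKn
    infer_instance
  have h3 : Nat.card N ≤ Nat.card ↥(N ⊓ K) := hmin (N ⊓ K) ⟨h2, h1⟩
  have h4 : N ⊓ K = N := Subgroup.eq_of_le_of_card_ge inf_le_left h3
  exact inf_eq_left.mp h4

theorem sqf_min_normal_abelian {G : Type u} [Group G] [Group.IsSolvable G] [Nontrivial G]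
    (N : Subgroup G) (hmin : ∀ K : Subgroup G, K.Normal → K ≠ ⊥ → N ≤ K) :
    ∀ a ∈ N, ∀ b ∈ N, a * b = b * a := by
  classical
  have hex : ∃ n : ℕ, derivedSeries G n = ⊥ := Group.IsSolvable.solvable
  have h0 : Nat.find hex ≠ 0 := by
    intro h
    have := Nat.find_spec hex
    rw [h, derivedSeries_zero] at this
    exact top_ne_bot this
  obtain ⟨k, hk⟩ := Nat.exists_eq_succ_of_ne_zero h0
  have hkne : derivedSeries G k ≠ ⊥ := Nat.find_min hex (by omega)
  have hNA : N ≤ derivedSeries G k := hmin _ inferInstance hkne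
  have hA : ⁅derivedSeries G k, derivedSeries G k⁆ = ⊥ := by
    rw [← derivedSeries_succ, ← Nat.succ_eq_add_one, ← hk]
    exact Nat.find_spec hex
  rw [Subgroup.commutator_eq_bot_iff_le_centralizer] at hA
  intro a ha b hb
  have h1 := hA (hNA hb)
  rw [Subgroup.mem_centralizer_iff] at h1
  exact h1 a (hNA ha)

theorem sqf_min_normal_pgroup {G : Type u} [Group G] [Finite G] (N : Subgroup G) (hNn : N.Normal)
    (hNne : N ≠ ⊥) (hab : ∀ a ∈ N, ∀ b ∈ N, a * b = b * a)
    (hmin : ∀ K : Subgroup G, K.Normal → K ≠ ⊥ → N ≤ K) :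
    ∃ p : ℕ, p.Prime ∧ IsPGroup p N := by
  have hcard : Nat.card N ≠ 1 := by
    have := (Subgroup.one_lt_card_iff_ne_bot N).mpr hNne
    omega
  have hp : (Nat.card N).minFac.Prime := Nat.minFac_prime hcard
  set p := (Nat.card N).minFac with hpdef
  haveI : Fact p.Prime := ⟨hp⟩
  obtain ⟨x, hx⟩ := exists_prime_orderOf_dvd_card' (G := N) p (Nat.minFac_dvd _)
  let K : Subgroup G :=
    { carrier := {y | y ∈ N ∧ y ^ p = 1}
      mul_mem' := by
        rintro a b ⟨ha, ha'⟩ ⟨hb, hb'⟩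
        refine ⟨N.mul_mem ha hb, ?_⟩
        have hc : Commute a b := hab a ha b hb
        rw [hc.mul_pow, ha', hb', one_mul]
      one_mem' := ⟨N.one_mem, one_pow _⟩
      inv_mem' := by
        rintro a ⟨ha, ha'⟩
        exact ⟨N.inv_mem ha, by rw [inv_pow, ha', inv_one]⟩ }
  have hKn : K.Normal := by
    constructor
    rintro y ⟨hy, hy'⟩ g
    exact ⟨hNn.conj_mem y hy g, by rw [conj_pow, hy', mul_one, mul_inv_cancel]⟩
  have hKne : K ≠ ⊥ := by
    intro h
    have hxK : (x : G) ∈ K := by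
      refine ⟨x.2, ?_⟩
      have h1 := pow_orderOf_eq_one x
      rw [hx] at h1
      have h2 := congrArg (fun z : N => (z : G)) h1
      simpa using h2
    rw [h, Subgroup.mem_bot] at hxK
    have hx1 : x = 1 := Subtype.ext hxK
    rw [hx1, orderOf_one] at hx
    exact hp.one_lt.ne hx
  have hNK : N ≤ K := hmin K hKn hKne
  refine ⟨p, hp, ?_⟩
  intro a
  refine ⟨1, ?_⟩
  apply Subtype.ext
  have := (hNK a.2).2
  simpa using this

theorem sqf_exists_coatom {G : Type u} [Group G] (hΦ : frattini G = ⊥) (N : Subgroup G)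
    (hNne : N ≠ ⊥) : ∃ M : Subgroup G, IsCoatom M ∧ ¬ N ≤ M := by
  by_contra h
  simp only [not_exists, not_and, not_not] at h
  apply hNne
  rw [eq_bot_iff, ← hΦ]
  unfold frattini Order.radical
  exact le_iInf₂ fun M hM => h M hM

theorem sqf_sup_normal {G : Type u} [Group G] (N M : Subgroup G) [hN : N.Normal] (hNM : N ⊔ M = ⊤)
    (Q' : Subgroup M) [hQ' : Q'.Normal] : (N ⊔ Q'.map M.subtype).Normal := by
  constructor
  intro x hx g
  have hg : g ∈ N ⊔ M := hNM ▸ Subgroup.mem_top g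
  obtain ⟨n, hn, m, hm, rfl⟩ := Subgroup.mem_sup_of_normal_left.mp hg
  obtain ⟨a, ha, b, hb, rfl⟩ := Subgroup.mem_sup_of_normal_left.mp hx
  obtain ⟨b', hb', rfl⟩ := hb
  have h1 : m * a * m⁻¹ ∈ N := hN.conj_mem a ha m
  have h2 : m * (M.subtype b') * m⁻¹ ∈ Q'.map M.subtype :=
    ⟨⟨m, hm⟩ * b' * ⟨m, hm⟩⁻¹, hQ'.conj_mem b' hb' _, rfl⟩
  have h3 : n ∈ N ⊔ Q'.map M.subtype := Subgroup.mem_sup_left hn
  have h4 : n * m * (a * M.subtype b') * (n * m)⁻¹ =
      n * ((m * a * m⁻¹) * (m * M.subtype b' * m⁻¹)) * n⁻¹ := by group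
  rw [h4]
  exact Subgroup.mul_mem _ (Subgroup.mul_mem _ h3 (Subgroup.mul_mem _ (Subgroup.mem_sup_left h1)
    (Subgroup.mem_sup_right h2))) (Subgroup.inv_mem _ h3)

theorem sqf_cent_trivial {G : Type u} [Group G] (N M : Subgroup G) [hN : N.Normal]
    (hNM : N ⊔ M = ⊤) (hNM' : ¬ N ≤ M)
    (hmin : ∀ K : Subgroup G, K.Normal → K ≠ ⊥ → N ≤ K) :
    ∀ x ∈ M, (∀ n ∈ N, x * n = n * x) → x = 1 := by
  set C : Subgroup G := M ⊓ Subgroup.centralizer (N : Set G) with hC
  have hCn : C.Normal := by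
    constructor
    rintro x ⟨hxM, hxC⟩ g
    have hg : g ∈ N ⊔ M := hNM ▸ Subgroup.mem_top g
    obtain ⟨n, hn, m, hm, rfl⟩ := Subgroup.mem_sup_of_normal_left.mp hg
    have hcn : (Subgroup.centralizer (N : Set G)).Normal := Subgroup.normal_centralizer
    have hyM : m * x * m⁻¹ ∈ M := M.mul_mem (M.mul_mem hm hxM) (M.inv_mem hm)
    have hyC : m * x * m⁻¹ ∈ Subgroup.centralizer (N : Set G) := hcn.conj_mem x hxC m
    have h1 : n * (m * x * m⁻¹) = (m * x * m⁻¹) * n := by
      rw [Subgroup.mem_centralizer_iff] at hyC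
      exact hyC n hn
    have h2 : n * m * x * (n * m)⁻¹ = m * x * m⁻¹ := by
      have : n * m * x * (n * m)⁻¹ = n * (m * x * m⁻¹) * n⁻¹ := by group
      rw [this, h1, mul_inv_cancel_right]
    rw [h2]
    exact ⟨hyM, hyC⟩
  have hCbot : C = ⊥ := by
    by_contra hne
    exact hNM' ((hmin C hCn hne).trans inf_le_left)
  intro x hxM hx
  have hxC : x ∈ C := by
    refine Subgroup.mem_inf.mpr ⟨hxM, ?_⟩
    rw [Subgroup.mem_centralizer_iff]
    intro n hn
    exact (hx n hn).symm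
  rw [hCbot, Subgroup.mem_bot] at hxC
  exact hxC

theorem sqf_pcore_p_trivial {G : Type u} [Group G] [Finite G] (p : ℕ) [Fact p.Prime]
    (N Q : Subgroup G) [hNn : N.Normal] (hN : IsPGroup p N) (hNne : N ≠ ⊥) (hQ : IsPGroup p Q)
    (hNQ : (N ⊔ Q).Normal)
    (hmin : ∀ K : Subgroup G, K.Normal → K ≠ ⊥ → N ≤ K) :
    ∀ x ∈ Q, ∀ n ∈ N, x * n = n * x := by
  have hX : IsPGroup p ↥(N ⊔ Q) := hN.to_sup_of_normal_left hQ
  haveI : Nontrivial ↥(N ⊔ Q) := by
    obtain ⟨y, hy1⟩ := (Subgroup.ne_bot_iff_exists_ne_one).mp hNne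
    refine ⟨⟨⟨(y : G), Subgroup.mem_sup_left y.2⟩, 1, fun h => hy1 (Subtype.ext ?_)⟩⟩
    have h' := congrArg Subtype.val h
    simpa using h'
  have hZ : ⊥ < Subgroup.center ↥(N ⊔ Q) := hX.bot_lt_center
  haveI := hNQ
  have hZn : ((Subgroup.center ↥(N ⊔ Q)).map (N ⊔ Q).subtype).Normal :=
    ConjAct.normal_of_characteristic_of_normal
  have hZne : (Subgroup.center ↥(N ⊔ Q)).map (N ⊔ Q).subtype ≠ ⊥ := by
    intro h
    rw [Subgroup.map_eq_bot_iff_of_injective _ (Subgroup.subtype_injective _)] at h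
    exact hZ.ne' h
  have hNZ := hmin _ hZn hZne
  intro x hx n hn
  obtain ⟨z, hz, hzn⟩ := hNZ hn
  have hz : z ∈ Subgroup.center ↥(N ⊔ Q) := hz
  rw [Subgroup.mem_center_iff] at hz
  have h1 := hz ⟨x, Subgroup.mem_sup_right hx⟩
  have h2 := congrArg (fun w : ↥(N ⊔ Q) => (w : G)) h1
  simp only [Subgroup.coe_mul] at h2
  rw [← hzn]
  exact h2

/-! ### the core case and the induction -/

theorem sqf_core_case {G : Type u} [Group G] [Finite G] [Group.IsSolvable G] [Nontrivial G]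
    (hsq : ∀ χ : Cfsg.IrrCharacter G, Squarefree (Cfsg.charDegree (χ : G → ℂ)))
    (hΦ : frattini G = ⊥)
    (hmeet : ∀ N₁ N₂ : Subgroup G, N₁.Normal → N₂.Normal → N₁ ≠ ⊥ → N₂ ≠ ⊥ → N₁ ⊓ N₂ ≠ ⊥) :
    derivedSeries G 2 ≤ Cfsg.fittingSubgroup G := by
  classical
  obtain ⟨N, hNn, hNne, hmin⟩ := sqf_exists_min_normal hmeet
  haveI := hNn
  have hNab := sqf_min_normal_abelian N hmin
  obtain ⟨p, hp, hNp⟩ := sqf_min_normal_pgroup N hNn hNne hNab hmin
  haveI : Fact p.Prime := ⟨hp⟩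
  obtain ⟨M, hM, hNM⟩ := sqf_exists_coatom hΦ N hNne
  have hsup : N ⊔ M = ⊤ :=
    hM.2 _ (lt_of_le_of_ne le_sup_right (fun h => hNM (le_sup_left.trans h.ge)))
  have hcent := sqf_cent_trivial N M hsup hNM hmin
  have hcores : ∀ q : ℕ, q.Prime → Nat.card (Cfsg.pCore q ↥M) ≤ q := by
    intro q hq
    haveI : Fact q.Prime := ⟨hq⟩
    set Q : Subgroup G := (Cfsg.pCore q ↥M).map M.subtype with hQdef
    have hcard : Nat.card Q = Nat.card (Cfsg.pCore q ↥M) :=
      Subgroup.card_map_of_injective M.subtype_injective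
    have hQq : IsPGroup q Q := (Cfsg.Agent.Helper5.isPGroup_pCore q).map M.subtype
    have hQM : Q ≤ M := Subgroup.map_subtype_le _
    have hNQ : (N ⊔ Q).Normal := sqf_sup_normal N M hsup (Cfsg.pCore q ↥M)
    rw [← hcard]
    by_cases hqp : q = p
    · subst hqp
      have hc := sqf_pcore_p_trivial q N Q hNp hNne hQq hNQ hmin
      have hQbot : Q = ⊥ := by
        rw [Subgroup.eq_bot_iff_forall]
        intro x hx
        exact hcent x (hQM hx) (fun n hn => hc x hx n hn)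
      rw [hQbot, Subgroup.card_bot]
      exact hq.one_le
    · obtain ⟨k, hk⟩ := IsPGroup.iff_card.mp hNp
      have hcop : (Nat.card N).Coprime q := by
        rw [hk]
        exact Nat.Coprime.pow_left _ ((Nat.coprime_primes hp hq).mpr (Ne.symm hqp))
      exact sqf_card_le_of_degrees hsq N Q hNab q hQq hcop hNQ
        (fun x hx h => hcent x (hQM hx) h)
  have hM2 : derivedSeries ↥M 2 = ⊥ := sqf_metabelian_of_small_cores hcores
  let f : ↥M →* G ⧸ N := (QuotientGroup.mk' N).comp M.subtype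
  have hf : Function.Surjective f := by
    intro y
    obtain ⟨g, rfl⟩ := QuotientGroup.mk'_surjective N y
    have hg : g ∈ N ⊔ M := hsup ▸ Subgroup.mem_top g
    obtain ⟨n, hn, m, hm, rfl⟩ := Subgroup.mem_sup_of_normal_left.mp hg
    refine ⟨⟨m, hm⟩, ?_⟩
    show ((m : G) : G ⧸ N) = ((n * m : G) : G ⧸ N)
    rw [QuotientGroup.mk_mul, (QuotientGroup.eq_one_iff n).mpr hn, one_mul]
  have hquot : derivedSeries (G ⧸ N) 2 = ⊥ := by
    rw [← map_derivedSeries_eq hf 2, hM2, Subgroup.map_bot]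
  have hle : derivedSeries G 2 ≤ N := by
    intro x hx
    have h1 : QuotientGroup.mk' N x ∈ derivedSeries (G ⧸ N) 2 :=
      map_derivedSeries_le_derivedSeries _ 2 (Subgroup.mem_map_of_mem _ hx)
    rw [hquot, Subgroup.mem_bot] at h1
    exact (QuotientGroup.eq_one_iff x).mp h1
  have hNnil : Group.IsNilpotent ↥N := hNp.isNilpotent
  exact hle.trans (Cfsg.Agent.Helper1.le_fittingSubgroup hNn hNnil)

theorem sqf_card_quotient_lt {G : Type u} [Group G] [Finite G] (N : Subgroup G) [N.Normal]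
    (hN : N ≠ ⊥) : Nat.card (G ⧸ N) < Nat.card G := by
  have h1 := Subgroup.card_eq_card_quotient_mul_card_subgroup N
  have h2 := (Subgroup.one_lt_card_iff_ne_bot N).mpr hN
  have h3 : 0 < Nat.card (G ⧸ N) := Nat.card_pos
  nlinarith

theorem sqf_derived_le_fitting_aux : ∀ (n : ℕ) (G : Type u) [Group G] [Finite G]
    [Group.IsSolvable G], Nat.card G = n →
    (∀ χ : Cfsg.IrrCharacter G, Squarefree (Cfsg.charDegree (χ : G → ℂ))) →
    derivedSeries G 2 ≤ Cfsg.fittingSubgroup G := by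
  intro n
  induction n using Nat.strong_induction_on with
  | _ n ih =>
    intro G _ _ _ hcard hsq
    by_cases hΦ : frattini G = ⊥
    · by_cases htwo : ∃ N₁ N₂ : Subgroup G, N₁.Normal ∧ N₂.Normal ∧ N₁ ≠ ⊥ ∧ N₂ ≠ ⊥ ∧
          N₁ ⊓ N₂ = ⊥
      · obtain ⟨N₁, N₂, h1, h2, hne1, hne2, hinf⟩ := htwo
        haveI := h1
        haveI := h2
        apply sqf_le_fitting_of_two N₁ N₂ hinf
        · exact ih _ (hcard ▸ sqf_card_quotient_lt N₁ hne1) (G ⧸ N₁) rfl
            (sqf_degrees_quotient hsq N₁)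
        · exact ih _ (hcard ▸ sqf_card_quotient_lt N₂ hne2) (G ⧸ N₂) rfl
            (sqf_degrees_quotient hsq N₂)
      · by_cases hG : Nontrivial G
        · apply sqf_core_case hsq hΦ
          intro N₁ N₂ h1 h2 hne1 hne2 hinf
          exact htwo ⟨N₁, N₂, h1, h2, hne1, hne2, hinf⟩
        · rw [not_nontrivial_iff_subsingleton] at hG
          intro x _
          rw [Subsingleton.elim x 1]
          exact Subgroup.one_mem _
    · apply sqf_le_fitting_of_frattini
      exact ih _ (hcard ▸ sqf_card_quotient_lt (frattini G) hΦ) (G ⧸ frattini G) rfl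
        (sqf_degrees_quotient hsq (frattini G))

theorem sqf_derived_le_fitting {G : Type u} [Group G] [Finite G] [Group.IsSolvable G]
    (hsq : ∀ χ : Cfsg.IrrCharacter G, Squarefree (Cfsg.charDegree (χ : G → ℂ))) :
    derivedSeries G 2 ≤ Cfsg.fittingSubgroup G :=
  sqf_derived_le_fitting_aux _ G rfl hsq

end Cfsg.Agent.SQF
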